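import Cfsg.Agent.H39.Fi22C.Basic
import Cfsg.Prelude.Def_Spor_Fi23
import Cfsg.Prelude.Def_TwoFusion
import Cfsg.Prelude.Def_CaseTheorems

/-!
Interfaces for S3233: an involution centraliser of shape `(2² × 2^(1+8)).(3 × U₄(2)).2`.

Route. `W = {1, a, b, ab}` is the normal four-group, `zW` holds the other three involutions of the
centre of the core. The centraliser of `az` modulo `⟨az⟩` is in the swap case of S3232: live gives
the Fischer group. So every `wz`, `w ∈ W`, may be taken dead. Then the centraliser of `a` either has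
`z` isolated or normalises `W` (`GoodA`). The kernel: every element moving `z` into its centraliser
normalises `W`. If all are dead this is weak closure of `z`. Otherwise `W` is normal by the
dihedral group generated by `z` and a conjugate of `a`.
-/

set_option autoImplicit false

namespace H2.Fi23C

open H38.U6C H39.Fi22C

/-- The four elements of `W`. -/
def InW {G : Type*} [Group G] (a b p : G) : Prop := p = 1 ∨ p = a ∨ p = b ∨ p = a * b

/-- The elements of the centre of the core. -/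
def InZ {G : Type*} [Group G] (z a b p : G) : Prop := InW a b p ∨ InW a b (p * z)

/-- An involution of `W`. -/
def IsA {G : Type*} [Group G] (a b e : G) : Prop := e = a ∨ e = b ∨ e = a * b

/-- `g` normalises `W`. -/
def NormW {G : Type*} [Group G] (a b g : G) : Prop := ∀ w, InW a b w → InW a b (g * w * g⁻¹)

/-- The data in the ambient group. -/
structure Setup4 {G : Type*} [Group G] {F : Type*} [Field F] [Fintype F] (z a b c : G)
    (J K₀ : Subgroup G) (π : ↥K₀ →* Cfsg.PSp 2 F) : Prop where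
  card_F : Fintype.card F = 3
  sq : z * z = 1
  ne_one : z ≠ 1
  a_sq : a * a = 1
  b_sq : b * b = 1
  ab_comm : Commute a b
  a_ne : a ≠ 1 ∧ a ≠ z
  b_ne : b ≠ 1 ∧ b ≠ z ∧ b ≠ a ∧ b ≠ a * z
  ab_ne : a * b ≠ z
  c_pow : c ^ 3 = 1
  c_mem : c ∈ Subgroup.centralizer ({z} : Set G)
  c_a : c * a * c⁻¹ = b
  c_b : c * b * c⁻¹ = a * b
  outer : ∃ o ∈ Subgroup.centralizer ({z} : Set G), o * a * o⁻¹ = a ∧ o * b * o⁻¹ = a * b
  le_cent : K₀ ≤ Subgroup.centralizer ({z} : Set G)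
  J_le : J ≤ K₀
  z_mem : z ∈ J
  a_mem : a ∈ J
  b_mem : b ∈ J
  a_K₀ : ∀ g ∈ K₀, Commute a g
  b_K₀ : ∀ g ∈ K₀, Commute b g
  mem_K₀ : ∀ g ∈ Subgroup.centralizer ({z} : Set G), Commute a g → Commute b g → g ∈ K₀
  conj_W : ∀ g ∈ Subgroup.centralizer ({z} : Set G), NormW a b g
  card_J : Nat.card J = 2 ^ 11
  conj_mem : ∀ g ∈ Subgroup.centralizer ({z} : Set G), ∀ j ∈ J, g * j * g⁻¹ ∈ J
  sq_mem : ∀ p ∈ J, p * p = 1 ∨ p * p = z
  comm_mem : ∀ p ∈ J, ∀ q ∈ J, p * q = q * p ∨ p * q = q * p * z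
  center : ∀ p ∈ J, (∀ q ∈ J, Commute p q) → InZ z a b p
  self_cent : ∀ g ∈ Subgroup.centralizer ({z} : Set G), (∀ j ∈ J, Commute g j) → g ∈ J
  c_fix : ∀ p ∈ J, InZ z a b (c * p * c⁻¹ * p⁻¹) → InZ z a b p
  c_K₀ : ∀ h ∈ K₀, c * h * c⁻¹ * h⁻¹ ∈ J
  inner : ∀ g ∈ Subgroup.centralizer ({z} : Set G), (∀ h ∈ K₀, g * h * g⁻¹ * h⁻¹ ∈ J) →
    ∃ i : ℕ, ∃ j ∈ J, g = c ^ i * j
  π_surj : Function.Surjective π
  π_ker : ∀ g : ↥K₀, π g = 1 ↔ (g : G) ∈ J
  core : J = (Cfsg.pCore 2 ↥(Subgroup.centralizer ({z} : Set G))).map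
    (Subgroup.centralizer ({z} : Set G)).subtype
  card_cent : Nat.card (Subgroup.centralizer ({z} : Set G)) = 2 ^ 11 * 155520
  card_K₀ : Nat.card K₀ = 2 ^ 11 * 25920
  card_psp : Nat.card (Cfsg.PSp 2 F) = 25920
  simple_psp : IsSimpleGroup (Cfsg.PSp 2 F)

/-- `z` is isolated in the centraliser of each `ez`, `e` an involution of `W`. -/
def DeadD {G : Type*} [Group G] (z a b : G) : Prop := ∀ e, IsA a b e → Dead z (e * z)

/-- In the centraliser of an involution of `W`, moving `z` into its centraliser normalises `W`. -/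
def GoodA {G : Type*} [Group G] (z a b : G) : Prop :=
  ∀ e, IsA a b e → ∀ g : G, Commute g e → Commute (g * z * g⁻¹) z → NormW a b g

/-- A live centraliser of `a`: it normalises `W`, the centraliser of `W` is `2².U₆(2)`. -/
def LiveW {G : Type*} [Group G] (K : Type*) [Field K] [Fintype K] (z a b : G) (K₀ : Subgroup G) :
    Prop :=
  (∀ g : G, Commute g a → NormW a b g) ∧
    ∃ X₀ : Subgroup G, (∀ x ∈ X₀, Commute x a ∧ Commute x b) ∧
      (X₀.subgroupOf (Subgroup.centralizer ({a} : Set G))).index = 2 ∧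
      X₀ ⊓ Subgroup.centralizer ({z} : Set G) = K₀ ∧
      ∃ f : ↥X₀ →* Cfsg.PSU 6 K 2, Function.Surjective f ∧
        ∀ g, f g = 1 ↔ InW a b (g : G)

/-- The third alternative of S3233. -/
def AltW {G : Type*} [Group G] (K : Type*) [Field K] [Fintype K] : Prop :=
  ∃ (W : Subgroup G) (_ : W.Normal), Nat.card ↥W = 4 ∧ (∀ w ∈ W, w ^ 2 = 1) ∧
    Nonempty ((G ⧸ W) ≃* MulAut (Cfsg.PSU 6 K 2))

/-- The image of a subgroup under a map defined on a subgroup. -/
def imX {G Q : Type*} [Group G] [Group Q] {X : Subgroup G} (f : ↥X →* Q) (P : Subgroup G) :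
    Subgroup Q :=
  (P.subgroupOf X).map f

/-- The elements of the core centralised by `e`. -/
def centJ {G : Type*} [Group G] (J : Subgroup G) (e : G) : Set G := {p | p ∈ J ∧ Commute e p}

/-- The elements of the core centralised by `e` modulo the centre. -/
def fixJ {G : Type*} [Group G] (z a b : G) (J : Subgroup G) (e : G) : Set G :=
  {p | p ∈ J ∧ InZ z a b (e * p * e⁻¹ * p⁻¹)}

universe u v w

/-- The data from the hypotheses of S3233. -/
def SetupStmt : Prop :=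
  ∀ {G : Type u} [Group G] [Finite G] (z : G), orderOf z = 2 →
    ∀ {F : Type v} [Field F] [Fintype F], Fintype.card F = 3 →
    ∀ (V E : Subgroup ↥(Subgroup.centralizer ({z} : Set G))),
      Cfsg.IsInternalDirectProduct V E
        (Cfsg.pCore 2 ↥(Subgroup.centralizer ({z} : Set G))) → Nat.card ↥V = 4 →
      (∀ v ∈ V, v ^ 2 = 1) → Cfsg.IsExtraspecial 2 ↥E → Nat.card ↥E = 2 ^ 9 →
      Subgroup.centralizer ((Cfsg.pCore 2 ↥(Subgroup.centralizer ({z} : Set G))) :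
        Set ↥(Subgroup.centralizer ({z} : Set G))) ≤
          Cfsg.pCore 2 ↥(Subgroup.centralizer ({z} : Set G)) →
      ∀ (zc c : ↥(Subgroup.centralizer ({z} : Set G))), (zc : G) = z → orderOf c = 3 →
      ∀ [_hJc : (Cfsg.pCore 2 ↥(Subgroup.centralizer ({z} : Set G)) ⊔
          Subgroup.zpowers c).Normal]
        (_e : (↥(Subgroup.centralizer ({z} : Set G)) ⧸
          (Cfsg.pCore 2 ↥(Subgroup.centralizer ({z} : Set G)) ⊔ Subgroup.zpowers c)) ≃*
            MulAut (Cfsg.PSp 2 F))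
        [_hcz : ((Subgroup.zpowers c ⊔ Subgroup.zpowers zc).subgroupOf
          (Subgroup.centralizer ({c} : Set ↥(Subgroup.centralizer ({z} : Set G))))).Normal]
        (_e' : (↥(Subgroup.centralizer ({c} : Set ↥(Subgroup.centralizer ({z} : Set G)))) ⧸
          (Subgroup.zpowers c ⊔ Subgroup.zpowers zc).subgroupOf
            (Subgroup.centralizer ({c} : Set ↥(Subgroup.centralizer ({z} : Set G))))) ≃*
              Cfsg.PSp 2 F),
      ∃ (a b c' : G) (J K₀ : Subgroup G) (π : ↥K₀ →* Cfsg.PSp 2 F), Setup4 z a b c' J K₀ π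

/-- The data are symmetric under `c`. -/
def RotStmt : Prop :=
  ∀ {G : Type u} [Group G] [Finite G] {F : Type v} [Field F] [Fintype F] {z a b c : G}
    {J K₀ : Subgroup G} {π : ↥K₀ →* Cfsg.PSp 2 F},
    Setup4 z a b c J K₀ π → Setup4 z b (a * b) c J K₀ π

/-- A quotient by `e ∈ {a, az}` of a group between `C(z) ∩ C(a)` and `C(e)` has the data of S3232,
with swap exactly for `e = az`. -/
def QuotStmt : Prop :=
  ∀ {G : Type u} [Group G] [Finite G] {F : Type v} [Field F] [Fintype F] {z a b c : G}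
    {J K₀ : Subgroup G} {π : ↥K₀ →* Cfsg.PSp 2 F},
    Setup4 z a b c J K₀ π → ∀ e, (e = a ∨ e = a * z) → ∀ (X : Subgroup G)
      (hz : z ∈ X) (hb : b ∈ X),
      Subgroup.centralizer ({z} : Set G) ⊓ Subgroup.centralizer ({a} : Set G) ≤ X →
      X ≤ Subgroup.centralizer ({e} : Set G) →
      ∀ {Q : Type u} [Group Q] [Finite Q] (f : ↥X →* Q), Function.Surjective f →
      (∀ g, f g = 1 ↔ ((g : G) = 1 ∨ (g : G) = e)) →
      (∃ π' : ↥(imX f K₀) →* Cfsg.PSp 2 F,
        Setup3 (f ⟨z, hz⟩) (f ⟨b, hb⟩) (imX f J) (imX f K₀) π') ∧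
      Subgroup.centralizer ({f ⟨z, hz⟩} : Set Q) = imX f (Subgroup.centralizer ({z} : Set G)) ∧
      (e = a → NoSwap (f ⟨z, hz⟩) (f ⟨b, hb⟩)) ∧ (e = a * z → Swap (f ⟨z, hz⟩) (f ⟨b, hb⟩))

/-- The fixed case of the module does not occur in the quotients: `c` has no fixed vectors. -/
def NoFixStmt : Prop :=
  ∀ {G : Type u} [Group G] [Finite G] {F : Type v} [Field F] [Fintype F] {z a b c : G}
    {J K₀ : Subgroup G} {π : ↥K₀ →* Cfsg.PSp 2 F},
    Setup4 z a b c J K₀ π → ∀ e, (e = a ∨ e = a * z) → ∀ (X : Subgroup G)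
      (hz : z ∈ X) (hb : b ∈ X),
      Subgroup.centralizer ({z} : Set G) ⊓ Subgroup.centralizer ({a} : Set G) ≤ X →
      X ≤ Subgroup.centralizer ({e} : Set G) →
      ∀ {Q : Type u} [Group Q] [Finite Q] (f : ↥X →* Q),
      (∀ g, f g = 1 ↔ ((g : G) = 1 ∨ (g : G) = e)) →
      ∀ U : Subgroup Q, ¬ FixJ (f ⟨z, hz⟩) (f ⟨b, hb⟩) (imX f J) (imX f K₀) U

/-- A live `az` gives the Fischer group. -/
def LiveDStmt : Prop :=
  ∀ {G : Type u} [Group G] [Finite G] {F : Type v} [Field F] [Fintype F] (K : Type w) [Field K]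
    [Fintype K], Fintype.card K = 4 → ∀ {z a b c : G} {J K₀ : Subgroup G}
    {π : ↥K₀ →* Cfsg.PSp 2 F},
    Setup4 z a b c J K₀ π → DeadD z a b ∨ Cfsg.Spor.IsoFi23 G

/-- With all `ez` dead, the centraliser of `a` is dead or normalises `W`. -/
def SideAStmt : Prop :=
  ∀ {G : Type u} [Group G] [Finite G] {F : Type v} [Field F] [Fintype F] (K : Type w) [Field K]
    [Fintype K], Fintype.card K = 4 → ∀ {z a b c : G} {J K₀ : Subgroup G}
    {π : ↥K₀ →* Cfsg.PSp 2 F},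
    Setup4 z a b c J K₀ π → DeadD z a b →
      (∀ e, IsA a b e → Dead z e) ∨ LiveW K z a b K₀

/-- `GoodA` in both cases. -/
def GoodStmt : Prop :=
  ∀ {G : Type u} [Group G] [Finite G] {F : Type v} [Field F] [Fintype F] (K : Type w) [Field K]
    [Fintype K] {z a b c : G} {J K₀ : Subgroup G} {π : ↥K₀ →* Cfsg.PSp 2 F},
    Setup4 z a b c J K₀ π → ((∀ e, IsA a b e → Dead z e) ∨ LiveW K z a b K₀) → GoodA z a b

/-- The model facts on an involution of `K₀` outside the core. -/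
structure Facts4 {G : Type*} [Group G] (z a b : G) (J K₀ : Subgroup G) : Prop where
  fix : ∀ e ∈ K₀, e * e = 1 → e ∉ J →
    (fixJ z a b J e).ncard = 16 * 8 ∨ (fixJ z a b J e).ncard = 64 * 8
  comm16 : ∀ e ∈ K₀, e * e = 1 → e ∉ J → (fixJ z a b J e).ncard = 16 * 8 →
    ∀ p ∈ fixJ z a b J e, Commute e p
  big : ∀ e ∈ K₀, e * e = 1 → e ∉ J → (fixJ z a b J e).ncard = 64 * 8 → ∀ d ∈ K₀, d ∉ J →
    centJ J e ⊆ centJ J d → e * d ∈ J
  parity : ∀ e ∈ K₀, e * e = 1 → e ∉ J → ∀ d ∈ Subgroup.centralizer ({z} : Set G),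
    d * d = 1 → centJ J e ⊆ centJ J d → d ∈ K₀
  out_mul : ∀ x ∈ Subgroup.centralizer ({z} : Set G), ∀ y ∈ Subgroup.centralizer ({z} : Set G),
    x * x = 1 → y * y = 1 → Commute x y → x ∉ K₀ → y ∉ K₀ → x * y ∈ K₀
  line : ∀ x ∈ K₀, ∀ y ∈ K₀, x * x = 1 → y * y = 1 → Commute x y →
    x ∉ J → y ∉ J → x * y ∉ J → (fixJ z a b J x).ncard = 16 * 8 →
    (fixJ z a b J y).ncard = 16 * 8 → (fixJ z a b J (x * y)).ncard = 16 * 8 →
    centJ J x ⊆ centJ J y → ∃ g ∈ K₀, Commute g x ∧ ¬ Commute g y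
  eight : ∀ E : Subgroup G, E ≤ K₀ → Nat.card E = 8 → (∀ e ∈ E, e * e = 1) →
    (∀ e ∈ E, e ∈ J → e = 1) →
    (∀ e ∈ E, e ≠ 1 → (fixJ z a b J e).ncard = 16 * 8) →
    ¬ ∀ e ∈ E, e ≠ 1 → ∀ d ∈ E, d ≠ 1 → centJ J e = centJ J d

/-- The model facts. -/
def FactsStmt : Prop :=
  ∀ {G : Type u} [Group G] [Finite G] {F : Type v} [Field F] [Fintype F] {z a b c : G}
    {J K₀ : Subgroup G} {π : ↥K₀ →* Cfsg.PSp 2 F},
    Setup4 z a b c J K₀ π → Facts4 z a b J K₀

/-- `k` moves `z` into its centraliser and does not normalise `W`. -/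
def Bad {G : Type*} [Group G] (z a b k : G) : Prop :=
  Commute (k * z * k⁻¹) z ∧ ¬ NormW a b k

/-- What the kernel needs from the Sylow subgroup and the centre of the core. -/
structure Fusion4 {G : Type*} [Group G] (z a b : G) (J : Subgroup G) : Prop where
  z_a : ∀ e, IsA a b e → ¬ IsConj z e
  z_d : ∀ e, IsA a b e → ¬ IsConj z (e * z)
  a_d : ∀ e e', IsA a b e → IsA a b e' → ¬ IsConj e (e' * z)
  bad_z : ∀ k, Bad z a b k → k * z * k⁻¹ ∉ J
  bad_a : ∀ k e, IsA a b e → Bad z a b k → k * e * k⁻¹ ∉ J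
  bad_d : ∀ k e, IsA a b e → Bad z a b k → k * (e * z) * k⁻¹ ∉ J
  rebase : ∀ k q, (q = z ∨ IsA a b q ∨ IsA a b (q * z)) → Bad z a b k →
    Commute (k * q * k⁻¹) z →
    ∃ k' e, IsA a b e ∧ Bad z a b k' ∧ Commute (k' * e * k'⁻¹) z ∧
      (∃ q', (q' = z ∨ q' = e ∨ q' = e * z) ∧ k' * q' * k'⁻¹ = k * q * k⁻¹) ∧
      centJ J (k * q * k⁻¹) ⊆ centJ J (k' * z * k'⁻¹) ∧
      centJ J (k * q * k⁻¹) ⊆ centJ J (k' * e * k'⁻¹)
  conj_into : ∀ k q, (q = z ∨ IsA a b q ∨ IsA a b (q * z)) → Commute (k * q * k⁻¹) z →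
    ∃ k', k' * q * k'⁻¹ = k * q * k⁻¹ ∧ Commute (k' * z * k'⁻¹) z
  sylow : ∀ q u, (IsA a b q ∨ IsA a b (q * z)) → u * u = 1 → Commute u q →
    ∃ m, Commute m q ∧ Commute (m * u * m⁻¹) z
  dead : ∀ k e, IsA a b e → Commute (k * z * k⁻¹) z → Commute (k * e * k⁻¹) z →
    centJ J (k * (e * z) * k⁻¹) ⊆ centJ J (k * z * k⁻¹)

/-- The fusion facts. -/
def FusionStmt : Prop :=
  ∀ {G : Type u} [Group G] [Finite G] {F : Type v} [Field F] [Fintype F] {z a b c : G}
    {J K₀ : Subgroup G} {π : ↥K₀ →* Cfsg.PSp 2 F},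
    Setup4 z a b c J K₀ π → DeadD z a b → GoodA z a b → Fusion4 z a b J

/-- The kernel: moving `z` into its centraliser normalises `W`. -/
def KernelStmt : Prop :=
  ∀ {G : Type u} [Group G] [Finite G] {F : Type v} [Field F] [Fintype F] {z a b c : G}
    {J K₀ : Subgroup G} {π : ↥K₀ →* Cfsg.PSp 2 F},
    Setup4 z a b c J K₀ π → Facts4 z a b J K₀ → Fusion4 z a b J →
      ∀ k : G, Commute (k * z * k⁻¹) z → NormW a b k

/-- If everything is dead, `z` is weakly closed. -/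
def AllDeadStmt : Prop :=
  ∀ {G : Type u} [Group G] [Finite G] {F : Type v} [Field F] [Fintype F] {z a b c : G}
    {J K₀ : Subgroup G} {π : ↥K₀ →* Cfsg.PSp 2 F},
    Setup4 z a b c J K₀ π → (∀ e, IsA a b e → Dead z e) →
      (∀ k : G, Commute (k * z * k⁻¹) z → NormW a b k) → WC z

/-- The conjugates of `z` and of `a` make `W` normal. -/
def NormalWStmt : Prop :=
  ∀ {G : Type u} [Group G] [Finite G] {F : Type v} [Field F] [Fintype F] {z a b c : G}
    {J K₀ : Subgroup G} {π : ↥K₀ →* Cfsg.PSp 2 F},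
    Setup4 z a b c J K₀ π → Fusion4 z a b J → DeadD z a b →
    (∀ g : G, Commute g a → NormW a b g) →
    (∀ k : G, Commute (k * z * k⁻¹) z → NormW a b k) → ∀ g : G, NormW a b g

/-- The quotient by a normal `W`. -/
def AltWStmt : Prop :=
  ∀ {G : Type u} [Group G] [Finite G] {F : Type v} [Field F] [Fintype F] (K : Type w) [Field K]
    [Fintype K], Fintype.card K = 4 → ∀ {z a b c : G} {J K₀ : Subgroup G}
    {π : ↥K₀ →* Cfsg.PSp 2 F},
    Setup4 z a b c J K₀ π → LiveW K z a b K₀ → (∀ g : G, NormW a b g) → AltW (G := G) K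

end H2.Fi23C
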