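import Cfsg.Agent.H2.Fi23C.Lifts

/-!
Two involutions of `K₀` with the same centraliser in the core, one over a transvection, differ by
the core.
-/

set_option autoImplicit false
set_option linter.unusedSectionVars false

namespace H2.Fi23C

open H39.Fi22C
open H38.U6C (V)
open H16.Fi22C (ρ₀ Closed)

universe u v

variable {G : Type u} [Group G] [Finite G] {F : Type v} [Field F] [Fintype F] {z a b c : G}
  {J K₀ : Subgroup G} {π : ↥K₀ →* Cfsg.PSp 2 F}

/-- The field `big` of the model facts. -/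
theorem big_of (S : Setup4 z a b c J K₀ π) : ∀ e ∈ K₀, e * e = 1 → e ∉ J →
    (fixJ z a b J e).ncard = 64 * 8 → ∀ d ∈ K₀, d ∉ J →
    centJ J e ⊆ centJ J d → e * d ∈ J := by
  classical
  intro e he h2 heJ h64 d hd hdJ hsub
  obtain ⟨π', φ, ρ, B⟩ := exists_bridge S
  set f := ρ₀ B.set3 ρ (el S he) with hf
  set h := ρ₀ B.set3 ρ (el S hd) with hh
  have hfl := H2.U6E.isLin_of_isom (H16.Fi22C.ρ₀_isom B.set3 B.nat (el S he))
  have hhl := H2.U6E.isLin_of_isom (H16.Fi22C.ρ₀_isom B.set3 B.nat (el S hd))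
  rw [← hf] at hfl
  rw [← hh] at hhl
  have hfix : (Finset.univ.filter fun v : V => f v = v).card = 64 := by
    have := ncard_fixJ B he
    rw [h64] at this
    convert (Nat.eq_of_mul_eq_mul_right (by norm_num) this).symm
  set T := Finset.univ.filter fun v : V => f v = v ∧ h v = v with hT
  have hfixc : ∀ {g p : G} (hg : g ∈ K₀), p ∈ J → Commute g p →
      ρ₀ B.set3 ρ (el S hg) (val S φ p) = val S φ p := fun {g p} hg hp hc => by
    rw [← val_conj B hg hp, mul_inv_eq_iff_eq_mul.2 hc.eq]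
  have hCT : (centJ J e).ncard ≤ T.card * 8 := by
    rw [← ncard_preimage8 B]
    refine Set.ncard_le_ncard (fun p hp => ⟨hp.1, Finset.mem_filter.2 ⟨Finset.mem_univ _,
      hfixc he hp.1 hp.2, hfixc hd hp.1 (hsub hp).2⟩⟩) (Set.toFinite _)
  have h256 := cent256 S he h2 h64
  have hTc : Closed T := by
    refine ⟨Finset.mem_filter.2 ⟨Finset.mem_univ _, H39.U6E.lin_zero hfl,
      H39.U6E.lin_zero hhl⟩, fun p hp q hq => ?_, fun k p hp => ?_⟩ <;>
      rw [hT, Finset.mem_filter] at * <;> refine ⟨Finset.mem_univ _, ?_, ?_⟩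
    · rw [hfl.add, hp.2.1, hq.2.1]
    · rw [hhl.add, hp.2.2, hq.2.2]
    · rw [hfl.smul, hp.2.1]
    · rw [hhl.smul, hp.2.2]
  have hfne : f ≠ 1 := fun e' => by
    rw [Finset.filter_true_of_mem fun v _ => by rw [e']; rfl] at hfix
    simp at hfix
  obtain ⟨hall, -⟩ := H16.Fi22C.closed_full hfl hfne (S := T)
    (fun v hv => (Finset.mem_filter.1 hv).2.1) hTc (by omega)
  have hff : f * f = 1 := H16.Fi22C.invol_image B.set3 B.nat (el_sq B he h2)
  have heq : h = f := H16.Fi22C.eq_of_same_fix hfl hhl hff hfix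
    (fun v hv => (Finset.mem_filter.1 (hall v hv)).2.2)
    (fun e' => el_not_mem B hd hdJ ((H16.Fi22C.ρ₀_ker_iff B.set3 B.nat (el S hd)).1 e'))
  have h1 : ρ₀ B.set3 ρ (el S (mul_mem he hd)) = 1 := by
    rw [el_mul S he hd, map_mul, ← hf, ← hh, heq, hff]
  by_contra hed
  exact el_not_mem B (mul_mem he hd) hed
    ((H16.Fi22C.ρ₀_ker_iff B.set3 B.nat _).1 h1)

/-- The field `fix` of the model facts. -/
theorem fix_of (S : Setup4 z a b c J K₀ π) : ∀ e ∈ K₀, e * e = 1 → e ∉ J →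
    (fixJ z a b J e).ncard = 16 * 8 ∨ (fixJ z a b J e).ncard = 64 * 8 := fun e he h2 heJ => by
  obtain ⟨π', φ, ρ, B⟩ := exists_bridge S
  exact fix16_or_64 B he h2 heJ

/-- The field `comm16` of the model facts. -/
theorem comm16_field (S : Setup4 z a b c J K₀ π) : ∀ e ∈ K₀, e * e = 1 → e ∉ J →
    (fixJ z a b J e).ncard = 16 * 8 → ∀ p ∈ fixJ z a b J e, Commute e p :=
  fun _ he h2 _ h16 _ hp => comm16_of S he h2 h16 hp

end H2.Fi23C
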