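import Cfsg.Agent.H2.Fi23C.Basic
import Cfsg.Agent.H16.Fi22C.NoSwapSide
import Cfsg.Agent.H50.Fi22C.Module
import Cfsg.Agent.H20.Fi23C.Setup
import Cfsg.Agent.H38.Fi23C.Quot
import Cfsg.Agent.H50.Fi23C.NoFix

/-!
The elements of `K₀` read on the natural module, through the quotient of `C(z) ∩ C(a)` by `⟨a⟩`.
-/

set_option autoImplicit false
set_option linter.unusedSectionVars false

namespace H2.Fi23C

open H39.Fi22C
open H38.U6C (V)
open H16.Fi22C (ρ₀)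
open Subgroup (centralizer)

universe u v

variable {G : Type u} [Group G] [Finite G] {F : Type v} [Field F] [Fintype F] {z a b c : G}
  {J K₀ : Subgroup G} {π : ↥K₀ →* Cfsg.PSp 2 F}

/-- The centraliser of `z` and `a`. -/
def Xa (z a : G) : Subgroup G := centralizer ({z} : Set G) ⊓ centralizer ({a} : Set G)

/-- The subgroup generated by `a` in it. -/
def kerX (z a : G) : Subgroup ↥(Xa z a) := (Subgroup.zpowers a).subgroupOf (Xa z a)

instance kerX_normal (z a : G) : (kerX z a).Normal := by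
  refine ⟨fun n hn g => ?_⟩
  obtain ⟨k, hk⟩ := Subgroup.mem_subgroupOf.1 hn
  refine Subgroup.mem_subgroupOf.2 ⟨k, ?_⟩
  have hga : Commute (g : G) a := Subgroup.mem_centralizer_singleton_iff.1 g.2.2
  have h := (hga.zpow_right k).eq
  have hk' : a ^ k = (n : G) := hk
  show a ^ k = (g : G) * (n : G) * (g : G)⁻¹
  rw [← hk', h, mul_inv_cancel_right]

/-- The quotient map. -/
def qm (z a : G) : ↥(Xa z a) →* ↥(Xa z a) ⧸ kerX z a := QuotientGroup.mk' (kerX z a)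

theorem qm_surj (z a : G) : Function.Surjective (qm z a) := QuotientGroup.mk'_surjective _

theorem qm_eq_one (S : Setup4 z a b c J K₀ π) (g : ↥(Xa z a)) :
    qm z a g = 1 ↔ ((g : G) = 1 ∨ (g : G) = a) := by
  refine (QuotientGroup.eq_one_iff g).trans (Subgroup.mem_subgroupOf.trans ?_)
  constructor
  · rintro ⟨k, hk⟩
    have hk' : a ^ k = (g : G) := hk
    rw [← hk']
    rcases Int.even_or_odd' k with ⟨m, rfl | rfl⟩
    · left; rw [zpow_mul, zpow_ofNat, pow_two, S.a_sq, one_zpow]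
    · right; rw [zpow_add, zpow_mul, zpow_ofNat, pow_two, S.a_sq, one_zpow, one_mul, zpow_one]
  · rintro (h | h) <;> rw [h]
    exacts [Subgroup.one_mem _, Subgroup.mem_zpowers _]

theorem K₀_le_X (S : Setup4 z a b c J K₀ π) : K₀ ≤ Xa z a := fun g hg =>
  ⟨S.le_cent hg, Subgroup.mem_centralizer_singleton_iff.2 (S.a_K₀ g hg).symm.eq⟩

/-- The image of `z`. -/
def zq (S : Setup4 z a b c J K₀ π) : ↥(Xa z a) ⧸ kerX z a :=
  qm z a ⟨z, K₀_le_X S (S.J_le S.z_mem)⟩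

/-- The image of `b`. -/
def bq (S : Setup4 z a b c J K₀ π) : ↥(Xa z a) ⧸ kerX z a :=
  qm z a ⟨b, K₀_le_X S (S.J_le S.b_mem)⟩

/-- The quotient with its coordinates. -/
structure Bridge (S : Setup4 z a b c J K₀ π)
    (π' : ↥(imX (qm z a) K₀) →* Cfsg.PSp 2 F) (φ : (↥(Xa z a) ⧸ kerX z a) → V)
    (ρ : ↥(Subgroup.centralizer ({zq S} : Set (↥(Xa z a) ⧸ kerX z a))) →* Equiv.Perm V) :
    Prop where
  set3 : Setup3 (zq S) (bq S) (imX (qm z a) J) (imX (qm z a) K₀) π'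
  nat : NatJ (zq S) (bq S) (imX (qm z a) J) (imX (qm z a) K₀) φ ρ

theorem exists_bridge (S : Setup4 z a b c J K₀ π) : ∃ π' φ ρ, Bridge S π' φ ρ := by
  obtain ⟨⟨π', S3⟩, -, -, -⟩ := H38.Fi23C.quot S a (Or.inl rfl) (Xa z a)
    (K₀_le_X S (S.J_le S.z_mem)) (K₀_le_X S (S.J_le S.b_mem)) le_rfl inf_le_right (qm z a)
    (qm_surj z a) (qm_eq_one S)
  rcases H50.Fi22C.moduleJ S3 with ⟨φ, ρ, N⟩ | ⟨U, hU⟩
  · exact ⟨π', φ, ρ, S3, N⟩
  · exact absurd hU (H50.Fi23C.noFix S a (Or.inl rfl) (Xa z a) _ _ le_rfl inf_le_right (qm z a)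
      (qm_eq_one S) U)

/-- An element of `K₀` in the quotient. -/
def el (S : Setup4 z a b c J K₀ π) {e : G} (he : e ∈ K₀) : ↥(imX (qm z a) K₀) :=
  ⟨qm z a ⟨e, K₀_le_X S he⟩, ⟨⟨e, K₀_le_X S he⟩, he, rfl⟩⟩

theorem el_mul (S : Setup4 z a b c J K₀ π) {e d : G} (he : e ∈ K₀) (hd : d ∈ K₀) :
    el S (mul_mem he hd) = el S he * el S hd :=
  Subtype.ext (by exact map_mul (qm z a) ⟨e, K₀_le_X S he⟩ ⟨d, K₀_le_X S hd⟩)

theorem mem_imJ_iff (S : Setup4 z a b c J K₀ π) {P : Subgroup G} (haP : a ∈ P)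
    (x : ↥(Xa z a)) : qm z a x ∈ imX (qm z a) P ↔ (x : G) ∈ P :=
  H38.Fi23C.mem_imX S (Or.inl rfl) inf_le_right (qm_eq_one S) haP x

variable {S : Setup4 z a b c J K₀ π} {π' : ↥(imX (qm z a) K₀) →* Cfsg.PSp 2 F}
  {φ : (↥(Xa z a) ⧸ kerX z a) → V}
  {ρ : ↥(Subgroup.centralizer ({zq S} : Set (↥(Xa z a) ⧸ kerX z a))) →* Equiv.Perm V}

/-- The value on an element of the core. -/
noncomputable def val (_ : Setup4 z a b c J K₀ π) (φ : (↥(Xa z a) ⧸ kerX z a) → V) (p : G) : V := by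
  classical exact if h : p ∈ Xa z a then φ (qm z a ⟨p, h⟩) else φ 1

theorem val_eq {p : G} (hp : p ∈ J) :
    val S φ p = φ (qm z a ⟨p, K₀_le_X S (S.J_le hp)⟩) := by
  rw [val, dif_pos (K₀_le_X S (S.J_le hp))]

theorem qJ {p : G} (hp : p ∈ J) :
    qm z a ⟨p, K₀_le_X S (S.J_le hp)⟩ ∈ imX (qm z a) J :=
  ⟨⟨p, K₀_le_X S (S.J_le hp)⟩, hp, rfl⟩

/-- The four elements of the centre of the quotient core come from the centre of the core. -/
theorem inZ_iff {p : G} (hp : p ∈ Xa z a) :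
    InZ z a b p ↔ (qm z a ⟨p, hp⟩ = 1 ∨ qm z a ⟨p, hp⟩ = zq S ∨ qm z a ⟨p, hp⟩ = bq S ∨
      qm z a ⟨p, hp⟩ = bq S * zq S) := by
  have key : ∀ (r : G) (hr : r ∈ Xa z a),
      qm z a ⟨p, hp⟩ = qm z a ⟨r, hr⟩ ↔ (p = r ∨ p = r * a) := by
    intro r hr
    constructor
    · intro h
      have h1 : qm z a (⟨r, hr⟩⁻¹ * ⟨p, hp⟩) = 1 := by rw [map_mul, map_inv, h, inv_mul_cancel]
      rcases (qm_eq_one S _).1 h1 with e | e
      · exact Or.inl (inv_mul_eq_one.1 (show r⁻¹ * p = 1 from e)).symm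
      · exact Or.inr (eq_mul_of_inv_mul_eq (show r⁻¹ * p = a from e))
    · rintro (rfl | rfl)
      · rfl
      · have e : (⟨r * a, hp⟩ : ↥(Xa z a)) = ⟨r, hr⟩ * ⟨a, K₀_le_X S (S.J_le S.a_mem)⟩ := rfl
        rw [e, map_mul, (qm_eq_one S ⟨a, _⟩).2 (Or.inr rfl), mul_one]
  have hzX := K₀_le_X S (S.J_le S.z_mem)
  have hbX := K₀_le_X S (S.J_le S.b_mem)
  have hza : Commute z a := (S.a_K₀ z (S.J_le S.z_mem)).symm
  have hzb : Commute z b := (S.b_K₀ z (S.J_le S.z_mem)).symm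
  have h1 := key 1 (one_mem _)
  have h2 := key z hzX
  have h3 := key b hbX
  have h4 := key (b * z) (mul_mem hbX hzX)
  have e1 : qm z a ⟨1, one_mem _⟩ = 1 := map_one _
  have e4 : qm z a ⟨b * z, mul_mem hbX hzX⟩ = bq S * zq S := map_mul (qm z a) ⟨b, hbX⟩ ⟨z, hzX⟩
  rw [e1] at h1
  rw [e4] at h4
  change _ ↔ (_ ∨ _ = qm z a _ ∨ _ = qm z a _ ∨ _)
  rw [h1, h2, h3, h4]
  simp only [InZ, InW]
  have f : ∀ w : G, p * z = w ↔ p = w * z := fun w => by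
    constructor
    · rintro rfl; rw [mul_assoc, S.sq, mul_one]
    · rintro rfl; rw [mul_assoc, S.sq, mul_one]
  rw [f, f, f, f, one_mul, one_mul, hza.eq, S.ab_comm.eq,
    show b * a * z = b * z * a by rw [mul_assoc, ← hza.eq, ← mul_assoc]]
  simp only [or_assoc, or_comm, or_left_comm]

end H2.Fi23C
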