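import Cfsg.Agent.H2.Fi23C.Bridge

/-!
The preimage in the core of a set of vectors has eight elements over each vector.
-/

set_option autoImplicit false
set_option linter.unusedSectionVars false

namespace H2.Fi23C

open H39.Fi22C
open H38.U6C (V vadd)
open H50.U6C (vadd_zero' vadd_self vadd_assoc)
open H16.Fi22C (ρ₀)
open Subgroup (centralizer)

universe u v

variable {G : Type u} [Group G] [Finite G] {F : Type v} [Field F] [Fintype F] {z a b c : G}
  {J K₀ : Subgroup G} {π : ↥K₀ →* Cfsg.PSp 2 F} {S : Setup4 z a b c J K₀ π}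
  {π' : ↥(imX (qm z a) K₀) →* Cfsg.PSp 2 F} {φ : (↥(Xa z a) ⧸ kerX z a) → V}
  {ρ : ↥(Subgroup.centralizer ({zq S} : Set (↥(Xa z a) ⧸ kerX z a))) →* Equiv.Perm V}
  (B : Bridge S π' φ ρ)

include B

theorem val_mul {p q : G} (hp : p ∈ J) (hq : q ∈ J) :
    val S φ (p * q) = vadd (val S φ p) (val S φ q) := by
  rw [val_eq (S := S) (mul_mem hp hq), val_eq (S := S) hp, val_eq (S := S) hq, ← B.nat.toCore.φ_mul _ (qJ (S := S) hp) _ (qJ (S := S) hq)]
  exact congrArg φ (map_mul (qm z a) ⟨p, K₀_le_X S (S.J_le hp)⟩ ⟨q, K₀_le_X S (S.J_le hq)⟩)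

theorem val_zero_iff {p : G} (hp : p ∈ J) : val S φ p = 0 ↔ InZ z a b p := by
  rw [val_eq (S := S) hp, B.nat.toCore.φ_ker _ (qJ (S := S) hp), inZ_iff (S := S)]

theorem val_inv {p : G} (hp : p ∈ J) : val S φ p⁻¹ = val S φ p := by
  have h1 : val S φ (p⁻¹ * p) = 0 := (val_zero_iff B (mul_mem (inv_mem hp) hp)).2
    (by rw [inv_mul_cancel]; exact Or.inl (Or.inl rfl))
  rw [val_mul B (inv_mem hp) hp] at h1
  exact H33.U6E.vadd_eq_zero h1

theorem exists_val (v : V) : ∃ p ∈ J, val S φ p = v := by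
  obtain ⟨_, ⟨x, hx, rfl⟩, rfl⟩ := B.nat.toCore.φ_surj v
  exact ⟨x, hx, val_eq (S := S) hx⟩

theorem val_eq_iff {p q : G} (hp : p ∈ J) (hq : q ∈ J) :
    val S φ p = val S φ q ↔ InZ z a b (q⁻¹ * p) := by
  rw [← val_zero_iff B (mul_mem (inv_mem hq) hp), val_mul B (inv_mem hq) hp, val_inv B hq]
  exact ⟨fun h => by rw [h, vadd_self], fun h => (H33.U6E.vadd_eq_zero h).symm⟩

theorem inZ_memJ {p : G} (h : InZ z a b p) : p ∈ J :=
  H38.Fi23C.zs_le S (H38.Fi23C.mem_of_inZ S h)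

theorem ncard_preimage_mul (T : Finset V) :
    {p | p ∈ J ∧ val S φ p ∈ T}.ncard = T.card * {p : G | InZ z a b p}.ncard := by
  classical
  obtain ⟨sel, hsel⟩ : ∃ sel : V → G, ∀ v, sel v ∈ J ∧ val S φ (sel v) = v :=
    ⟨fun v => Classical.choose (exists_val B v), fun v => Classical.choose_spec (exists_val B v)⟩
  set Zf : Finset G := (Set.toFinite {p : G | InZ z a b p}).toFinset with hZf
  have hmem : ∀ r, r ∈ Zf ↔ InZ z a b r := fun r => by rw [hZf, Set.Finite.mem_toFinset]; rfl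
  have hval : ∀ v r, InZ z a b r → val S φ (sel v * r) = v := fun v r hr => by
    rw [val_mul B (hsel v).1 (inZ_memJ B hr), (val_zero_iff B (inZ_memJ B hr)).2 hr, vadd_zero',
      (hsel v).2]
  have heq : {p | p ∈ J ∧ val S φ p ∈ T} =
      ↑((T ×ˢ Zf).image fun e => sel e.1 * e.2) := by
    ext p
    simp only [Set.mem_setOf_eq, Finset.coe_image, Set.mem_image, Finset.mem_coe,
      Finset.mem_product, Prod.exists]
    constructor
    · rintro ⟨hp, hT⟩
      refine ⟨val S φ p, (sel (val S φ p))⁻¹ * p, ⟨hT, (hmem _).2 ?_⟩, by group⟩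
      exact (val_eq_iff B hp (hsel _).1).1 (hsel _).2.symm
    · rintro ⟨v, r, ⟨hv, hr⟩, rfl⟩
      rw [hval v r ((hmem r).1 hr)]
      exact ⟨mul_mem (hsel v).1 (inZ_memJ B ((hmem r).1 hr)), hv⟩
  rw [heq, Set.ncard_coe_finset, Finset.card_image_of_injOn, Finset.card_product,
    hZf, ← Set.ncard_eq_toFinset_card]
  rintro ⟨v, r⟩ hvr ⟨v', r'⟩ hvr' e
  rw [Finset.mem_coe, Finset.mem_product] at hvr hvr'
  have e' : sel v * r = sel v' * r' := e
  have hv : v = v' := by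
    have := congrArg (val S φ) e'
    rwa [hval v r ((hmem r).1 hvr.2), hval v' r' ((hmem r').1 hvr'.2)] at this
  subst hv
  rw [mul_left_cancel e']

theorem ncard_centre : {p : G | InZ z a b p}.ncard = 8 := by
  have h := ncard_preimage_mul B Finset.univ
  have e : {p | p ∈ J ∧ val S φ p ∈ (Finset.univ : Finset V)} = (J : Set G) := by
    ext p; simp
  rw [e, Finset.card_univ, Fintype.card_fin, ← Nat.card_coe_set_eq] at h
  have h2 : Nat.card (J : Set G) = 2 ^ 11 := S.card_J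
  omega

/-- Eight elements over each vector. -/
theorem ncard_preimage8 (T : Finset V) :
    {p | p ∈ J ∧ val S φ p ∈ T}.ncard = T.card * 8 := by
  rw [ncard_preimage_mul B, ncard_centre B]

theorem conj_J {e p : G} (he : e ∈ K₀) (hp : p ∈ J) : e * p * e⁻¹ ∈ J :=
  S.conj_mem e (S.le_cent he) p hp

/-- Conjugation in the core is the action on the model. -/
theorem val_conj {e p : G} (he : e ∈ K₀) (hp : p ∈ J) :
    val S φ (e * p * e⁻¹) = ρ₀ B.set3 ρ (el S he) (val S φ p) := by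
  rw [val_eq (S := S) (conj_J B he hp), val_eq (S := S) hp]
  have h := B.nat.toCore.ρ_φ ⟨(el S he : ↥(Xa z a) ⧸ kerX z a), B.set3.le_cent (el S he).2⟩ _
    (qJ (S := S) hp)
  refine Eq.trans ?_ h
  congr 1

theorem fix_iff {e p : G} (he : e ∈ K₀) (hp : p ∈ J) :
    p ∈ fixJ z a b J e ↔ ρ₀ B.set3 ρ (el S he) (val S φ p) = val S φ p := by
  have hm := mul_mem (conj_J B he hp) (inv_mem hp)
  rw [← val_conj B he hp]
  show p ∈ J ∧ _ ↔ _
  rw [← val_zero_iff B hm, val_mul B (conj_J B he hp) (inv_mem hp), val_inv B hp]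
  exact ⟨fun h => H33.U6E.vadd_eq_zero h.2, fun h => ⟨hp, by rw [h, vadd_self]⟩⟩

/-- The number of elements fixed modulo the centre. -/
theorem ncard_fixJ {e : G} (he : e ∈ K₀) :
    (fixJ z a b J e).ncard =
      (Finset.univ.filter fun v : V => ρ₀ B.set3 ρ (el S he) v = v).card * 8 := by
  rw [← ncard_preimage8 B]
  congr 1
  ext p
  simp only [Finset.mem_filter, Finset.mem_univ, true_and, Set.mem_setOf_eq]
  exact ⟨fun h => ⟨h.1, (fix_iff B he h.1).1 h⟩, fun h => (fix_iff B he h.1).2 h.2⟩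

theorem el_sq {e : G} (he : e ∈ K₀) (h2 : e * e = 1) :
    (el S he : ↥(Xa z a) ⧸ kerX z a) * (el S he : ↥(Xa z a) ⧸ kerX z a) = 1 := by
  show qm z a _ * qm z a _ = 1
  rw [← map_mul, show (⟨e, K₀_le_X S he⟩ : ↥(Xa z a)) * ⟨e, K₀_le_X S he⟩ = 1 from Subtype.ext h2,
    map_one]

theorem el_not_mem {e : G} (he : e ∈ K₀) (hJ : e ∉ J) :
    (el S he : ↥(Xa z a) ⧸ kerX z a) ∉ imX (qm z a) J := fun h =>
  hJ ((mem_imJ_iff S S.a_mem _).1 h)

theorem fix16_or_64 {e : G} (he : e ∈ K₀) (h2 : e * e = 1) (hJ : e ∉ J) :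
    (fixJ z a b J e).ncard = 16 * 8 ∨ (fixJ z a b J e).ncard = 64 * 8 := by
  rw [ncard_fixJ B he]
  rcases H16.Fi22C.fix_16_64 B.set3 B.nat (b := el S he) (el_sq B he h2) (el_not_mem B he hJ) with
    h | h <;> rw [h] <;> simp

end H2.Fi23C
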