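import Cfsg.Agent.H2.Fi23C.Lifts
import Cfsg.Agent.H81.Fi23C.EightModel
import Cfsg.Agent.H20.Fi22C.Line

/-!
Two involutions of `K₀` over one line are separated by an element of `K₀`; there are no seven
involutions over one line forming a group with `1`.
-/

set_option autoImplicit false
set_option linter.unusedSectionVars false

namespace H2.Fi23C

open H39.Fi22C
open H38.U6C (V)
open H16.Fi22C (ρ₀)

universe u v

variable {G : Type u} [Group G] [Finite G] {F : Type v} [Field F] [Fintype F] {z a b c : G}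
  {J K₀ : Subgroup G} {π : ↥K₀ →* Cfsg.PSp 2 F} {π' : ↥(imX (qm z a) K₀) →* Cfsg.PSp 2 F}
  {φ : (↥(Xa z a) ⧸ kerX z a) → V} {S : Setup4 z a b c J K₀ π}
  {ρ : ↥(Subgroup.centralizer ({zq S} : Set (↥(Xa z a) ⧸ kerX z a))) →* Equiv.Perm V}

/-- A vector fixed by `e` is fixed by `d` if `d` centralises what `e` does. -/
theorem fix_subset (B : Bridge S π' φ ρ) {e d : G} (he : e ∈ K₀) (hd : d ∈ K₀) (h2 : e * e = 1)
    (h16 : (fixJ z a b J e).ncard = 16 * 8) (hsub : centJ J e ⊆ centJ J d) (v : V)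
    (hv : ρ₀ B.set3 ρ (el S he) v = v) : ρ₀ B.set3 ρ (el S hd) v = v := by
  obtain ⟨p, hp, rfl⟩ := exists_val B v
  have hpf : p ∈ fixJ z a b J e := (fix_iff B he hp).2 hv
  have hc := hsub (show p ∈ centJ J e from ⟨hp, comm16_of S he h2 h16 hpf⟩)
  rw [← val_conj B hd hp, mul_inv_eq_iff_eq_mul.2 hc.2.eq]

theorem card_fix16 (B : Bridge S π' φ ρ) {e : G} (he : e ∈ K₀)
    (h16 : (fixJ z a b J e).ncard = 16 * 8) :
    (Finset.univ.filter fun v : V => ρ₀ B.set3 ρ (el S he) v = v).card = 16 := by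
  have := ncard_fixJ B he
  omega

/-- The field `line` of the model facts. -/
theorem line_of (S : Setup4 z a b c J K₀ π) : ∀ x ∈ K₀, ∀ y ∈ K₀, x * x = 1 → y * y = 1 →
    Commute x y → x ∉ J → y ∉ J → x * y ∉ J → (fixJ z a b J x).ncard = 16 * 8 →
    (fixJ z a b J y).ncard = 16 * 8 → (fixJ z a b J (x * y)).ncard = 16 * 8 →
    centJ J x ⊆ centJ J y → ∃ g ∈ K₀, Commute g x ∧ ¬ Commute g y := by
  intro x hx y hy x2 y2 _ _ _ _ h16x h16y h16xy hsub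
  obtain ⟨π', φ, ρ, B⟩ := exists_bridge S
  obtain ⟨γ, hγ, hγf, hγh⟩ := H20.Fi22C.line_kill
    (H2.U6E.isLin_of_isom (H16.Fi22C.ρ₀_isom B.set3 B.nat (el S hx)))
    (H2.U6E.isLin_of_isom (H16.Fi22C.ρ₀_isom B.set3 B.nat (el S hy)))
    (H16.Fi22C.invol_image B.set3 B.nat (el_sq B hx x2))
    (H16.Fi22C.invol_image B.set3 B.nat (el_sq B hy y2))
    (card_fix16 B hx h16x) (card_fix16 B hy h16y)
    (by rw [← map_mul, ← el_mul S hx hy]; exact card_fix16 B (mul_mem hx hy) h16xy)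
    (fix_subset B hx hy x2 h16x hsub)
  rw [← H16.Fi22C.ρ₀_range B.set3 B.nat] at hγ
  obtain ⟨γ', rfl⟩ := hγ
  obtain ⟨g', hg'x, hg'ρ⟩ := H16.Fi22C.lift16 B.set3 B.nat (b := el S hx) (el_sq B hx x2)
    (card_fix16 B hx h16x) hγf
  obtain ⟨g₀, hg₀, hg₀'⟩ := g'.2
  have hg : (g₀ : G) ∈ K₀ := hg₀
  have hge : g' = el S hg := Subtype.ext hg₀'.symm
  have h1 : qm z a (⟨x, K₀_le_X S hx⟩⁻¹ * (g₀ * ⟨x, K₀_le_X S hx⟩ * g₀⁻¹)) = 1 := by
    simp only [map_mul, map_inv]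
    rw [inv_mul_eq_one, hg₀']
    exact (mul_inv_eq_iff_eq_mul.2 hg'x.eq).symm
  have hgg : Commute ((g₀ : G) * g₀) x := by
    refine mul_inv_eq_iff_eq_mul.1 ?_
    rcases (qm_eq_one S _).1 h1 with h | h
    · have e : (g₀ : G) * x * (g₀ : G)⁻¹ = x := (inv_mul_eq_one.1 h).symm
      calc (g₀ : G) * g₀ * x * ((g₀ : G) * g₀)⁻¹ = g₀ * (g₀ * x * (g₀ : G)⁻¹) * (g₀ : G)⁻¹ := by
            group
        _ = x := by rw [e, e]
    · have e : (g₀ : G) * x * (g₀ : G)⁻¹ = x * a := inv_mul_eq_iff_eq_mul.1 h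
      calc (g₀ : G) * g₀ * x * ((g₀ : G) * g₀)⁻¹ = g₀ * (g₀ * x * (g₀ : G)⁻¹) * (g₀ : G)⁻¹ := by
            group
        _ = g₀ * x * (a * (g₀ : G)⁻¹) := by rw [e]; group
        _ = g₀ * x * (g₀ : G)⁻¹ * a := by rw [(S.a_K₀ _ hg).inv_right.eq]; group
        _ = x := by rw [e, mul_assoc, S.a_sq, mul_one]
  refine ⟨(g₀ : G) * g₀, mul_mem hg hg, hgg, fun hc => hγh ?_⟩
  have e1 : ρ₀ B.set3 ρ γ' * ρ₀ B.set3 ρ γ' * (ρ₀ B.set3 ρ γ' * ρ₀ B.set3 ρ γ') =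
      ρ₀ B.set3 ρ (el S (mul_mem hg hg)) := by
    rw [el_mul S hg hg, map_mul, ← hge, hg'ρ]
  rw [e1, ← map_mul, ← map_mul, ← el_mul S (mul_mem hg hg) hy, ← el_mul S hy (mul_mem hg hg)]
  exact congrArg _ (Subtype.ext (congrArg (qm z a) (Subtype.ext hc.eq)))

/-- The field `eight` of the model facts. -/
theorem eight_of (S : Setup4 z a b c J K₀ π) : ∀ E : Subgroup G, E ≤ K₀ → Nat.card E = 8 →
    (∀ e ∈ E, e * e = 1) → (∀ e ∈ E, e ∈ J → e = 1) →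
    (∀ e ∈ E, e ≠ 1 → (fixJ z a b J e).ncard = 16 * 8) →
    ¬ ∀ e ∈ E, e ≠ 1 → ∀ d ∈ E, d ≠ 1 → centJ J e = centJ J d := by
  intro E hE hcard hsq hJ h16 hall
  obtain ⟨π', φ, ρ, B⟩ := exists_bridge S
  let ψ : ↥E →* Equiv.Perm V :=
    MonoidHom.mk' (fun e => ρ₀ B.set3 ρ (el S (hE e.2))) fun e d => by
      rw [← map_mul, ← el_mul S (hE e.2) (hE d.2)]
  have hinj : Function.Injective ψ := by
    refine (injective_iff_map_eq_one ψ).2 fun e he => ?_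
    by_contra hne
    exact el_not_mem B (hE e.2) (fun h => hne (Subtype.ext (hJ e e.2 h)))
      ((H16.Fi22C.ρ₀_ker_iff B.set3 B.nat _).1 he)
  have hne : ∀ e : ↥E, ψ e ≠ 1 → (e : G) ≠ 1 := fun e he h => he (by
    rw [show e = 1 from Subtype.ext h, map_one])
  obtain ⟨f, ⟨e, rfl⟩, g, ⟨d, rfl⟩, he, hd, v, hv, hv'⟩ := H81.Fi23C.eightModel ψ.range
    (by rw [← hcard]; exact Nat.card_congr (MonoidHom.ofInjective hinj).symm.toEquiv)
    (by
      rintro _ ⟨e, rfl⟩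
      exact ⟨H2.U6E.isLin_of_isom (H16.Fi22C.ρ₀_isom B.set3 B.nat _),
        H16.Fi22C.invol_image B.set3 B.nat (el_sq B (hE e.2) (hsq e e.2))⟩)
    (by
      rintro _ ⟨e, rfl⟩ he
      exact card_fix16 B (hE e.2) (h16 e e.2 (hne e he)))
  exact hv' (fix_subset B (hE e.2) (hE d.2) (hsq e e.2) (h16 e e.2 (hne e he))
    (hall e e.2 (hne e he) d d.2 (hne d hd)).subset v hv)

end H2.Fi23C
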