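import Cfsg.Agent.H2.Fi23C.Big
import Cfsg.Agent.H18.Fi23C.Parity
import Cfsg.Agent.H2.Fi23C.LineEightB

/-!
The model facts of S3233.
-/

set_option autoImplicit false

namespace H2.Fi23C

/-- `FactsStmt`. -/
theorem facts.{u, v} : FactsStmt.{u, v} := by
  intro G _ _ F _ _ z a b c J K₀ π S
  exact
    { fix := fix_of S
      comm16 := comm16_field S
      big := big_of S
      parity := fun e he _ _ d hd _ h =>
        H18.Fi23C.parity S he hd h
      out_mul := fun x hx y hy hx2 hy2 hxy hxn hyn =>
        H18.Fi23C.out_mul S hx hy hx2 hy2 hxy hxn hyn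
      line := line_of S
      eight := eight_of S }

end H2.Fi23C
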