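import Cfsg.Agent.H2.Fi23C.Count

/-!
An involution of `K₀` centralises the elements of the core fixed modulo the centre, up to `z` when
sixty-four vectors are fixed. The three quotients by the involutions of `W` are combined.
-/

set_option autoImplicit false
set_option linter.unusedSectionVars false

namespace H2.Fi23C

open H39.Fi22C
open H38.U6C (V)
open H16.Fi22C (ρ₀)
open Subgroup (centralizer)

universe u v

variable {G : Type u} [Group G] [Finite G] {F : Type v} [Field F] [Fintype F] {z a b c : G}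
  {J K₀ : Subgroup G} {π : ↥K₀ →* Cfsg.PSp 2 F}

theorem inW_rot (S : Setup4 z a b c J K₀ π) (p : G) : InW b (a * b) p ↔ InW a b p := by
  have e : b * (a * b) = a := by rw [← mul_assoc, ← S.ab_comm.eq, mul_assoc, S.b_sq, mul_one]
  simp only [InW, e]
  tauto

theorem inZ_rot (S : Setup4 z a b c J K₀ π) (p : G) : InZ z b (a * b) p ↔ InZ z a b p :=
  or_congr (inW_rot S p) (inW_rot S (p * z))

theorem fixJ_rot (S : Setup4 z a b c J K₀ π) (e : G) :
    fixJ z b (a * b) J e = fixJ z a b J e := by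
  ext p
  exact and_congr Iff.rfl (inZ_rot S _)

/-- The commutator with a fixed element lies in `⟨a⟩`. -/
theorem comm16_mod (S : Setup4 z a b c J K₀ π) {e p : G} (he : e ∈ K₀) (h2 : e * e = 1)
    (h16 : (fixJ z a b J e).ncard = 16 * 8) (hp : p ∈ fixJ z a b J e) :
    p⁻¹ * (e * p * e⁻¹) = 1 ∨ p⁻¹ * (e * p * e⁻¹) = a := by
  obtain ⟨π', φ, ρ, B⟩ := exists_bridge S
  have hc := H16.Fi22C.comm_of_fix16 B.set3 B.nat (b := el S he) (el_sq B he h2)
    (by have := ncard_fixJ B he; omega) (qJ (S := S) hp.1) (by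
      have := (fix_iff B he hp.1).1 hp
      rwa [val_eq (S := S) hp.1] at this)
  have h1 : qm z a (⟨p, K₀_le_X S (S.J_le hp.1)⟩⁻¹ *
      (⟨e, K₀_le_X S he⟩ * ⟨p, K₀_le_X S (S.J_le hp.1)⟩ * ⟨e, K₀_le_X S he⟩⁻¹)) = 1 := by
    simp only [map_mul, map_inv]
    rw [inv_mul_eq_one]
    exact (mul_inv_eq_iff_eq_mul.2 hc.eq).symm
  exact (qm_eq_one S _).1 h1

/-- With sixteen fixed vectors the fixed elements are centralised. -/
theorem comm16_of (S : Setup4 z a b c J K₀ π) {e p : G} (he : e ∈ K₀) (h2 : e * e = 1)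
    (h16 : (fixJ z a b J e).ncard = 16 * 8) (hp : p ∈ fixJ z a b J e) : Commute e p := by
  have h1 := comm16_mod S he h2 h16 hp
  have h3 := comm16_mod (H20.Fi23C.rot S) he h2 (by rw [fixJ_rot S]; exact h16)
    (show p ∈ fixJ z b (a * b) J e by rw [fixJ_rot S]; exact hp)
  refine mul_inv_eq_iff_eq_mul.1 ?_
  rcases h1 with h | h
  · exact (inv_mul_eq_one.1 h).symm
  rcases h3 with h' | h'
  · exact (inv_mul_eq_one.1 h').symm
  · exact absurd (h'.symm.trans h) S.b_ne.2.2.1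

/-- The commutator with a fixed element lies in `⟨z, a⟩`. -/
theorem comm64_mod (S : Setup4 z a b c J K₀ π) {e p : G} (he : e ∈ K₀) (h2 : e * e = 1)
    (h64 : (fixJ z a b J e).ncard = 64 * 8) (hp : p ∈ fixJ z a b J e) :
    (p⁻¹ * (e * p * e⁻¹) = 1 ∨ p⁻¹ * (e * p * e⁻¹) = a) ∨
      (z⁻¹ * (p⁻¹ * (e * p * e⁻¹)) = 1 ∨ z⁻¹ * (p⁻¹ * (e * p * e⁻¹)) = a) := by
  obtain ⟨π', φ, ρ, B⟩ := exists_bridge S
  have hh := H16.Fi22C.alpha B.set3 B.nat (b := el S he) (el_sq B he h2)
    (by have := ncard_fixJ B he; omega) (qJ (S := S) hp.1) (by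
      have := (fix_iff B he hp.1).1 hp
      rwa [val_eq (S := S) hp.1] at this)
  set x : ↥(Xa z a) := ⟨e, K₀_le_X S he⟩
  set y : ↥(Xa z a) := ⟨p, K₀_le_X S (S.J_le hp.1)⟩
  set w : ↥(Xa z a) := ⟨z, K₀_le_X S (S.J_le S.z_mem)⟩
  rcases hh with h | h
  · left
    have h1 : qm z a (y⁻¹ * (x * y * x⁻¹)) = 1 := by
      simp only [map_mul, map_inv]
      rw [inv_mul_eq_one]
      exact h.symm
    exact (qm_eq_one S _).1 h1
  · right
    have h1 : qm z a (w⁻¹ * (y⁻¹ * (x * y * x⁻¹))) = 1 := by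
      simp only [map_mul, map_inv]
      rw [inv_mul_eq_one, eq_inv_mul_iff_mul_eq]
      exact h.symm
    exact (qm_eq_one S _).1 h1

/-- With sixty-four fixed vectors the fixed elements are centralised up to `z`. -/
theorem comm64_of (S : Setup4 z a b c J K₀ π) {e p : G} (he : e ∈ K₀) (h2 : e * e = 1)
    (h64 : (fixJ z a b J e).ncard = 64 * 8) (hp : p ∈ fixJ z a b J e) :
    e * p * e⁻¹ = p ∨ e * p * e⁻¹ = p * z := by
  have h1 := comm64_mod S he h2 h64 hp
  have h3 := comm64_mod (H20.Fi23C.rot S) he h2 (by rw [fixJ_rot S]; exact h64)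
    (show p ∈ fixJ z b (a * b) J e by rw [fixJ_rot S]; exact hp)
  have hzi : z⁻¹ = z := inv_eq_of_mul_eq_one_right S.sq
  rw [hzi] at h1 h3
  set r := p⁻¹ * (e * p * e⁻¹) with hr
  suffices hrz : r = 1 ∨ r = z by
    rcases hrz with h | h
    · exact Or.inl (inv_mul_eq_one.1 (hr ▸ h)).symm
    · exact Or.inr (inv_mul_eq_iff_eq_mul.1 (hr ▸ h))
  have hz : ∀ w, z * r = w → r = z * w := fun w h => by
    rw [← h, ← mul_assoc, S.sq, one_mul]
  rcases h1 with (h | h) | (h | h)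
  · exact Or.inl h
  swap
  · exact Or.inr (by simpa using hz 1 h)
  · rcases h3 with (h' | h') | (h' | h')
    · exact Or.inl h'
    · exact absurd (h'.symm.trans h) S.b_ne.2.2.1
    · exact Or.inr (by simpa using hz 1 h')
    · refine absurd ?_ S.b_ne.2.2.2
      rw [← h', h, ((S.a_K₀ z (S.J_le S.z_mem))).eq]
  · rcases h3 with (h' | h') | (h' | h')
    · exact Or.inl h'
    · refine absurd ?_ S.b_ne.2.2.2
      rw [← h', hz _ h, (S.a_K₀ z (S.J_le S.z_mem)).eq]
    · exact Or.inr (by simpa using hz 1 h')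
    · exact absurd (h'.symm.trans h) S.b_ne.2.2.1

/-- At least 256 elements of the core are centralised. -/
theorem cent256 (S : Setup4 z a b c J K₀ π) {e : G} (he : e ∈ K₀) (h2 : e * e = 1)
    (h64 : (fixJ z a b J e).ncard = 64 * 8) : 256 ≤ (centJ J e).ncard := by
  classical
  have hsub : fixJ z a b J e ⊆ (fixJ z a b J e ∩ {p | Commute e p}) ∪
      (fixJ z a b J e \ {p | Commute e p}) := by simp
  have hle := (Set.ncard_le_ncard hsub (Set.toFinite _)).trans (Set.ncard_union_le _ _)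
  have hA : (fixJ z a b J e ∩ {p | Commute e p}).ncard ≤ (centJ J e).ncard :=
    Set.ncard_le_ncard (fun p hp => ⟨hp.1.1, hp.2⟩) (Set.toFinite _)
  have hB : (fixJ z a b J e \ {p | Commute e p}).ncard ≤ (centJ J e).ncard := by
    rcases (fixJ z a b J e \ {p | Commute e p}).eq_empty_or_nonempty with h | ⟨q, hq⟩
    · rw [h]; simp
    · refine Set.ncard_le_ncard_of_injOn (fun p => p * q⁻¹) (fun p hp => ?_)
        (fun p _ p' _ h => mul_right_cancel h) (Set.toFinite _)
      have ep := (comm64_of S he h2 h64 hp.1).resolve_left fun h => hp.2 (mul_inv_eq_iff_eq_mul.1 h)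
      have eq := (comm64_of S he h2 h64 hq.1).resolve_left fun h => hq.2 (mul_inv_eq_iff_eq_mul.1 h)
      refine ⟨mul_mem hp.1.1 (inv_mem hq.1.1), mul_inv_eq_iff_eq_mul.1 ?_⟩
      calc e * (p * q⁻¹) * e⁻¹ = (e * p * e⁻¹) * (e * q * e⁻¹)⁻¹ := by group
        _ = p * q⁻¹ := by rw [ep, eq]; group
  omega

end H2.Fi23C
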