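import Cfsg.Agent.H2.Fi23C.Basic
import Cfsg.Agent.H38.U6C.Main

/-!
S3233 from its modules.
-/

set_option autoImplicit false

namespace H2.Fi23C

open H38.U6C H39.Fi22C

universe u v w

variable {G : Type u} [Group G] [Finite G] {F : Type v} [Field F] [Fintype F]

/-- The three alternatives from the data. -/
theorem of_setup4 (hL : LiveDStmt.{u, v, w}) (hSA : SideAStmt.{u, v, w}) (hG : GoodStmt.{u, v, w})
    (hF : FactsStmt.{u, v}) (hU : FusionStmt.{u, v}) (hK' : KernelStmt.{u, v})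
    (hAD : AllDeadStmt.{u, v}) (hN : NormalWStmt.{u, v}) (hA : AltWStmt.{u, v, w})
    {K : Type w} [Field K] [Fintype K] (hK : Fintype.card K = 4) {z a b c : G}
    {J K₀ : Subgroup G} {π : ↥K₀ →* Cfsg.PSp 2 F} (hz : orderOf z = 2)
    (S : Setup4 z a b c J K₀ π) :
    Subgroup.centralizer ({z} : Set G) ⊔ Cfsg.oddCore G = ⊤ ∨ Cfsg.Spor.IsoFi23 G ∨
      AltW (G := G) K := by
  rcases hL K hK S with hd | hfi
  swap
  · exact Or.inr (Or.inl hfi)
  have hside := hSA K hK S hd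
  have hgood : GoodA z a b := hG K S hside
  have U := hU S hd hgood
  have hker := hK' S (hF S) U
  rcases hside with hdead | hlive
  · exact Or.inl (mul_core_of_wc hz (hAD S hdead hker))
  · exact Or.inr (Or.inr (hA K hK S hlive (hN S U hd hlive.1 hker)))

/-- The statement from the modules. -/
theorem of_parts (hS : SetupStmt.{u, v}) (hL : LiveDStmt.{u, v, w}) (hSA : SideAStmt.{u, v, w})
    (hG : GoodStmt.{u, v, w}) (hF' : FactsStmt.{u, v}) (hU : FusionStmt.{u, v})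
    (hK' : KernelStmt.{u, v}) (hAD : AllDeadStmt.{u, v}) (hN : NormalWStmt.{u, v})
    (hA : AltWStmt.{u, v, w}) {K : Type w} [Field K] [Fintype K] (hK : Fintype.card K = 4)
    (z : G) (hz : orderOf z = 2) (hF : Fintype.card F = 3)
    (V E : Subgroup ↥(Subgroup.centralizer ({z} : Set G)))
    (hVE : Cfsg.IsInternalDirectProduct V E
      (Cfsg.pCore 2 ↥(Subgroup.centralizer ({z} : Set G))))
    (hV : Nat.card ↥V = 4) (hV2 : ∀ v ∈ V, v ^ 2 = 1)
    (hE : Cfsg.IsExtraspecial 2 ↥E) (hEc : Nat.card ↥E = 2 ^ 9)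
    (hCJ : Subgroup.centralizer ((Cfsg.pCore 2 ↥(Subgroup.centralizer ({z} : Set G))) :
      Set ↥(Subgroup.centralizer ({z} : Set G))) ≤
        Cfsg.pCore 2 ↥(Subgroup.centralizer ({z} : Set G)))
    (zc c : ↥(Subgroup.centralizer ({z} : Set G))) (hzc : (zc : G) = z) (hc : orderOf c = 3)
    [hJc : (Cfsg.pCore 2 ↥(Subgroup.centralizer ({z} : Set G)) ⊔ Subgroup.zpowers c).Normal]
    (e : (↥(Subgroup.centralizer ({z} : Set G)) ⧸
      (Cfsg.pCore 2 ↥(Subgroup.centralizer ({z} : Set G)) ⊔ Subgroup.zpowers c)) ≃*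
        MulAut (Cfsg.PSp 2 F))
    [hcz : ((Subgroup.zpowers c ⊔ Subgroup.zpowers zc).subgroupOf
      (Subgroup.centralizer ({c} : Set ↥(Subgroup.centralizer ({z} : Set G))))).Normal]
    (e' : (↥(Subgroup.centralizer ({c} : Set ↥(Subgroup.centralizer ({z} : Set G)))) ⧸
      (Subgroup.zpowers c ⊔ Subgroup.zpowers zc).subgroupOf
        (Subgroup.centralizer ({c} : Set ↥(Subgroup.centralizer ({z} : Set G))))) ≃*
          Cfsg.PSp 2 F) :
    Subgroup.centralizer ({z} : Set G) ⊔ Cfsg.oddCore G = ⊤ ∨ Cfsg.Spor.IsoFi23 G ∨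
      (∃ (W : Subgroup G) (_ : W.Normal), Nat.card ↥W = 4 ∧ (∀ w ∈ W, w ^ 2 = 1) ∧
        Nonempty ((G ⧸ W) ≃* MulAut (Cfsg.PSU 6 K 2))) := by
  obtain ⟨a, b, c', J, K₀, π, S⟩ :=
    hS z hz hF V E hVE hV hV2 hE hEc hCJ zc c hzc hc e e'
  exact of_setup4 hL hSA hG hF' hU hK' hAD hN hA hK hz S

end H2.Fi23C
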