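import Cfsg.Agent.H55.Fi23C.SideA
import Cfsg.Agent.H38.Fi23C.Quot
import Cfsg.Agent.H50.Fi23C.NoFix
import Cfsg.Agent.H38.Fi22C.Dich
import Cfsg.Agent.H50.Fi22C.Module
import Cfsg.Agent.H16.Fi22C.NoSwap
import Cfsg.Agent.H35.Fi22C.EndN

/-!
The centraliser of `a` in S3233, with the modules of S3232 plugged in.
-/

set_option autoImplicit false

namespace H2.Fi23C

/-- `SideAStmt`. -/
theorem sideA.{u, v, w} : SideAStmt.{u, v, w} :=
  H55.Fi23C.sideA_of H38.Fi23C.quot H50.Fi23C.noFix H50.Fi22C.moduleJ H38.Fi22C.dichN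
    H16.Fi22C.noSwapDead H16.Fi22C.noSwapLive H35.Fi22C.endN

end H2.Fi23C
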